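-- helper74: ZASS (S0690) package [SRG]: no strongly regular graph with parameters (v, 3l, l+1, 4), l ≥ 3.
import Mathlib
import Cfsg.Agent.Lib.Helper51.Zass.Defs

set_option autoImplicit false

namespace Cfsg.Agent.Lib.Helper74.Zass

open Matrix Cfsg.Agent.Lib.Helper51.Zass

universe u

section matrices

variable {P : Type u} [Fintype P] [DecidableEq P]

/-- the square of a linear combination of `A`, `1`, `J` under the relations of a strongly
regular graph. -/
theorem srg_sq_formula (A J : Matrix P P ℝ) (p r k v : ℝ)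
    (hAA : A * A = p • (1 : Matrix P P ℝ) + r • A + (4 : ℝ) • J) (hAJ : A * J = k • J)
    (hJA : J * A = k • J) (hJJ : J * J = v • J) (a b c : ℝ) :
    (a • A + b • (1 : Matrix P P ℝ) + c • J) * (a • A + b • (1 : Matrix P P ℝ) + c • J) =
      (a ^ 2 * r + 2 * a * b) • A + (a ^ 2 * p + b ^ 2) • (1 : Matrix P P ℝ) +
        (4 * a ^ 2 + c ^ 2 * v + 2 * a * c * k + 2 * b * c) • J := by
  simp only [add_mul, mul_add, smul_mul_assoc, mul_smul_comm, Matrix.mul_one, Matrix.one_mul,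
    hAA, hAJ, hJA, hJJ, smul_add, smul_smul]
  module

/-- the trace of a matrix with `M * M = t • M`, `t ≠ 0`, is a natural multiple of `t`. -/
theorem trace_of_quasi_idem (M : Matrix P P ℝ) (t : ℝ) (ht : t ≠ 0) (hM : M * M = t • M) :
    ∃ f : ℕ, M.trace = f * t := by
  have hE : (t⁻¹ • M) * (t⁻¹ • M) = t⁻¹ • M := by
    rw [smul_mul_assoc, mul_smul_comm, hM, smul_smul, smul_smul, mul_assoc, inv_mul_cancel₀ ht,
      mul_one]
  have h1 : IsIdempotentElem (Matrix.toLin' (t⁻¹ • M)) := by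
    unfold IsIdempotentElem
    rw [Module.End.mul_eq_comp, ← Matrix.toLin'_mul, hE]
  have h2 := (LinearMap.IsIdempotentElem.isProj_range _ h1).trace
  rw [Matrix.trace_toLin'_eq, Matrix.trace_smul, smul_eq_mul] at h2
  refine ⟨Module.finrank ℝ ↥(LinearMap.range (Matrix.toLin' (t⁻¹ • M))), ?_⟩
  rw [← h2, mul_comm, mul_inv_cancel_left₀ ht]

end matrices

theorem not_isSquare_disc (l : ℕ) (hl : 3 ≤ l) (D : ℕ) (hD : D + 7 = l * l + 6 * l) :
    ¬ IsSquare D := by
  rintro ⟨t, ht⟩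
  have h1 : l + 1 < t := by
    by_contra h
    push Not at h
    have h' : t * t ≤ (l + 1) * (l + 1) := Nat.mul_le_mul h h
    nlinarith
  have h2 : t < l + 3 := by
    by_contra h
    push Not at h
    have h' : (l + 3) * (l + 3) ≤ t * t := Nat.mul_le_mul h h
    nlinarith
  have h3 : t = l + 2 := by omega
  rw [h3] at ht
  have h4 : D = l * l + 4 * l + 4 := by rw [ht]; ring
  omega

theorem pkgSRG : PkgSRG.{u} := by
  intro P _ _ adj _ l hne hl hsym hirr hk hlam hmu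
  obtain ⟨x₀⟩ := hne
  have hs' : ∀ a b, adj a b ↔ adj b a := fun a b => ⟨hsym a b, hsym b a⟩
  -- the matrices
  obtain ⟨A, hA⟩ : ∃ A : Matrix P P ℝ, ∀ x y, A x y = if adj x y then (1 : ℝ) else 0 :=
    ⟨Matrix.of fun x y => if adj x y then (1 : ℝ) else 0, fun _ _ => rfl⟩
  obtain ⟨J, hJ⟩ : ∃ J : Matrix P P ℝ, ∀ x y, J x y = (1 : ℝ) :=
    ⟨Matrix.of fun _ _ => (1 : ℝ), fun _ _ => rfl⟩
  obtain ⟨v, hv⟩ : ∃ v : ℕ, v = Fintype.card P := ⟨_, rfl⟩
  have hvpos : 0 < v := by rw [hv]; exact Fintype.card_pos_iff.mpr ⟨x₀⟩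
  have key : ∀ x y, (A * A) x y =
      ((Finset.univ.filter (fun w => adj x w ∧ adj y w)).card : ℝ) := by
    intro x y
    rw [Matrix.mul_apply, ← Finset.sum_boole]
    refine Finset.sum_congr rfl fun w _ => ?_
    rw [hA, hA]
    simp only [hs' w y]
    by_cases h1 : adj x w <;> by_cases h2 : adj y w <;> simp [h1, h2]
  have hAA : A * A = ((3 * l - 4 : ℝ)) • (1 : Matrix P P ℝ) + ((l : ℝ) - 3) • A + (4 : ℝ) • J := by
    ext x y
    rw [key]
    simp only [Matrix.add_apply, Matrix.smul_apply, smul_eq_mul, hJ, hA]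
    by_cases hxy : x = y
    · subst hxy
      have : (Finset.univ.filter (fun w => adj x w ∧ adj x w)) =
          (Finset.univ.filter (fun w => adj x w)) := by
        apply Finset.filter_congr
        intro w _
        exact and_self_iff
      rw [this, hk x, Matrix.one_apply_eq, if_neg (hirr x)]
      push_cast
      ring
    · by_cases ha : adj x y
      · rw [hlam x y ha, Matrix.one_apply_ne hxy, if_pos ha]
        push_cast
        ring
      · rw [hmu x y hxy ha, Matrix.one_apply_ne hxy, if_neg ha]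
        push_cast
        ring
  have hAJ : A * J = ((3 * l : ℝ)) • J := by
    ext x y
    rw [Matrix.mul_apply, Matrix.smul_apply, hJ, smul_eq_mul, mul_one]
    have : ∑ w, A x w * J w y = ∑ w, if adj x w then (1 : ℝ) else 0 := by
      refine Finset.sum_congr rfl fun w _ => ?_
      rw [hA, hJ, mul_one]
    rw [this, Finset.sum_boole, hk x]
    push_cast
    ring
  have hJA : J * A = ((3 * l : ℝ)) • J := by
    ext x y
    rw [Matrix.mul_apply, Matrix.smul_apply, hJ, smul_eq_mul, mul_one]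
    have : ∑ w, J x w * A w y = ∑ w, if adj y w then (1 : ℝ) else 0 := by
      refine Finset.sum_congr rfl fun w _ => ?_
      rw [hA, hJ, one_mul]
      simp only [hs' w y]
    rw [this, Finset.sum_boole, hk y]
    push_cast
    ring
  have hJJ : J * J = (v : ℝ) • J := by
    ext x y
    rw [Matrix.mul_apply, Matrix.smul_apply, hJ, smul_eq_mul, mul_one]
    have : ∑ w, J x w * J w y = ∑ w : P, (1 : ℝ) := by
      refine Finset.sum_congr rfl fun w _ => ?_
      rw [hJ, hJ, mul_one]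
    rw [this, Finset.sum_const, Finset.card_univ, ← hv, nsmul_eq_mul, mul_one]
  have htrA : A.trace = 0 := by
    unfold Matrix.trace
    apply Finset.sum_eq_zero
    intro x _
    rw [Matrix.diag_apply, hA, if_neg (hirr x)]
  have htrJ : J.trace = (v : ℝ) := by
    unfold Matrix.trace
    have : ∑ x, J.diag x = ∑ x : P, (1 : ℝ) := by
      refine Finset.sum_congr rfl fun x _ => ?_
      rw [Matrix.diag_apply, hJ]
    rw [this, Finset.sum_const, Finset.card_univ, ← hv, nsmul_eq_mul, mul_one]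
  have htr1 : (1 : Matrix P P ℝ).trace = (v : ℝ) := by
    rw [Matrix.trace_one, hv]
  -- the number of vertices
  have hv4 : (4 : ℝ) * v = 6 * (l : ℝ) ^ 2 + 6 * l + 4 := by
    have e1 : A * A * J = ((3 * l : ℝ) * (3 * l)) • J := by
      rw [Matrix.mul_assoc, hAJ, Matrix.mul_smul, hAJ, smul_smul]
    have e2 : A * A * J = ((3 * l - 4 : ℝ) + ((l : ℝ) - 3) * (3 * l) + 4 * v) • J := by
      rw [hAA, add_mul, add_mul, smul_mul_assoc, smul_mul_assoc, smul_mul_assoc, Matrix.one_mul,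
        hAJ, hJJ, smul_smul, smul_smul, ← add_smul, ← add_smul]
    have e3 := congrFun (congrFun (e1.symm.trans e2) x₀) x₀
    rw [Matrix.smul_apply, Matrix.smul_apply, hJ, smul_eq_mul, smul_eq_mul, mul_one, mul_one] at e3
    linear_combination (-1 : ℝ) * e3
  -- the discriminant
  obtain ⟨D, hD⟩ : ∃ D : ℕ, D + 7 = l * l + 6 * l := by
    refine ⟨l * l + 6 * l - 7, ?_⟩
    have : 27 ≤ l * l + 6 * l := by nlinarith
    omega
  have hDr : (D : ℝ) = (l : ℝ) ^ 2 + 6 * l - 7 := by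
    have := congrArg (Nat.cast : ℕ → ℝ) hD
    push_cast at this
    linarith
  have hirrat : Irrational (Real.sqrt (D : ℝ)) :=
    irrational_sqrt_natCast_iff.mpr (not_isSquare_disc l hl D hD)
  obtain ⟨s, hsdef⟩ : ∃ s : ℝ, s = Real.sqrt (D : ℝ) := ⟨_, rfl⟩
  rw [← hsdef] at hirrat
  have hs : s ^ 2 = (l : ℝ) ^ 2 + 6 * l - 7 := by
    rw [hsdef, Real.sq_sqrt (Nat.cast_nonneg D), hDr]
  have hs0 : s ≠ 0 := by
    intro h0
    rw [h0] at hirrat
    exact hirrat ⟨0, by simp⟩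
  have hv0 : (v : ℝ) ≠ 0 := by
    have : (0 : ℝ) < v := by exact_mod_cast hvpos
    exact ne_of_gt this
  -- the quasi-idempotent
  obtain ⟨τ, hτ⟩ : ∃ τ : ℝ, τ = (((l : ℝ) - 3) - s) / 2 := ⟨_, rfl⟩
  have hMM := srg_sq_formula A J (3 * l - 4 : ℝ) ((l : ℝ) - 3) (3 * l : ℝ) (v : ℝ) hAA hAJ hJA hJJ
    (v : ℝ) (-((v : ℝ) * τ)) (-((3 * l : ℝ) - τ))
  have c1 : ((v : ℝ) ^ 2 * ((l : ℝ) - 3) + 2 * (v : ℝ) * (-((v : ℝ) * τ))) = ((v : ℝ) * s) * v := by
    rw [hτ]; ring
  have c2 : ((v : ℝ) ^ 2 * (3 * l - 4 : ℝ) + (-((v : ℝ) * τ)) ^ 2) =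
      ((v : ℝ) * s) * (-((v : ℝ) * τ)) := by
    rw [hτ]
    linear_combination (-((v : ℝ) ^ 2) / 4) * hs
  have c3 : (4 * (v : ℝ) ^ 2 + (-((3 * l : ℝ) - τ)) ^ 2 * v +
      2 * (v : ℝ) * (-((3 * l : ℝ) - τ)) * (3 * l) + 2 * (-((v : ℝ) * τ)) * (-((3 * l : ℝ) - τ))) =
      ((v : ℝ) * s) * (-((3 * l : ℝ) - τ)) := by
    rw [hτ]
    linear_combination (v : ℝ) * hv4 + ((v : ℝ) / 4) * hs
  rw [c1, c2, c3, ← smul_smul, ← smul_smul ((v : ℝ) * s), ← smul_smul ((v : ℝ) * s), ← smul_add,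
    ← smul_add] at hMM
  obtain ⟨f, hf⟩ := trace_of_quasi_idem _ ((v : ℝ) * s) (mul_ne_zero hv0 hs0) hMM
  rw [Matrix.trace_add, Matrix.trace_add, Matrix.trace_smul, Matrix.trace_smul, Matrix.trace_smul,
    htrA, htrJ, htr1, smul_eq_mul, smul_eq_mul, smul_eq_mul, hτ] at hf
  -- `hf : v * 0 + -(v * τ) * v + -(3l - τ) * v = f * (v * s)`
  have hf2 : s * (((v : ℝ) - 1) - 2 * f) = ((v : ℝ) - 1) * ((l : ℝ) - 3) + 6 * l := by
    have hf' : (v : ℝ) * (s * (((v : ℝ) - 1) - 2 * f) - (((v : ℝ) - 1) * ((l : ℝ) - 3) + 6 * l)) = 0 := by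
      linear_combination (2 : ℝ) * hf
    rcases mul_eq_zero.mp hf' with h | h
    · exact absurd h hv0
    · linarith
  have hpos : (0 : ℝ) < ((v : ℝ) - 1) * ((l : ℝ) - 3) + 6 * l := by
    have h1 : (1 : ℝ) ≤ v := by exact_mod_cast hvpos
    have h2 : (3 : ℝ) ≤ l := by exact_mod_cast hl
    have h3 : 0 ≤ ((v : ℝ) - 1) * ((l : ℝ) - 3) := mul_nonneg (by linarith) (by linarith)
    linarith
  have hm : (((v : ℝ) - 1) - 2 * f) ≠ 0 := by
    intro h0
    rw [h0, mul_zero] at hf2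
    linarith
  have hrat : s = (((v : ℤ) - 1) * ((l : ℤ) - 3) + 6 * l : ℤ) / (((v : ℤ) - 1) - 2 * f : ℤ) := by
    push_cast
    rw [eq_div_iff hm]
    exact hf2
  exact hirrat.ne_rational _ _ hrat

end Cfsg.Agent.Lib.Helper74.Zass
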